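import Groth.Agent.FieldIndex.Fields

/-!
# Every finitely generated field extension has index equal to its transcendence degree
-/

set_option autoImplicit false
universe u

namespace Groth.Agent.FieldIndex

theorem good_of_surjective {K L : Type u} [Field K] [Field L] [Algebra K L]
    (h : Function.Surjective (algebraMap K L)) : Good K L := by
  haveI : Algebra.IsSeparable K L := ⟨fun y => by
    obtain ⟨a, rfl⟩ := h y; exact isSeparable_algebraMap a⟩
  exact good_of_isSeparable

theorem good_of_isPurelyInseparable (n : ℕ) : ∀ {K L : Type u} [Field K] [Field L] [Algebra K L]
    [FiniteDimensional K L] [IsPurelyInseparable K L], Module.finrank K L ≤ n → Good K L := by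
  induction n with
  | zero =>
    intro K L _ _ _ _ _ h
    exact absurd h (not_le.2 Module.finrank_pos)
  | succ n ih =>
    intro K L _ _ _ _ _ h
    by_cases hs : Function.Surjective (algebraMap K L)
    · exact good_of_surjective hs
    obtain _ | ⟨p, hp, hk⟩ := CharP.exists' K
    · haveI : Algebra.IsSeparable K L := Algebra.IsAlgebraic.isSeparable_of_perfectField
      exact good_of_isSeparable
    haveI := hk
    haveI : ExpChar K p := .prime hp.out
    obtain ⟨y, hy⟩ := not_forall.1 hs
    classical
    have hex : ∃ m, y ^ p ^ m ∈ (algebraMap K L).range := IsPurelyInseparable.pow_mem K p y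
    obtain ⟨m, hm⟩ : ∃ m, Nat.find hex = m + 1 := by
      refine Nat.exists_eq_succ_of_ne_zero fun h0 => hy ?_
      have := Nat.find_spec hex
      rw [h0, pow_zero, pow_one] at this
      exact this
    let t := y ^ p ^ m
    obtain ⟨c, hc⟩ : t ^ p ∈ (algebraMap K L).range := by
      have := Nat.find_spec hex
      rwa [hm, pow_succ, pow_mul] at this
    have ht : t ∉ Set.range (algebraMap K L) := fun h' =>
      Nat.find_min hex (show m < Nat.find hex by omega) h'
    let F := IntermediateField.adjoin K ({t} : Set L)
    have htF : t ∈ F := IntermediateField.mem_adjoin_simple_self K t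
    let g : F := ⟨t, htF⟩
    have hgen : Algebra.adjoin K {g} = ⊤ := by
      apply Subalgebra.map_injective (f := F.val) Subtype.val_injective
      rw [AlgHom.map_adjoin, Algebra.map_top, IntermediateField.range_val, Set.image_singleton]
      exact (IntermediateField.adjoin_simple_toSubalgebra_of_isAlgebraic
        (Algebra.IsAlgebraic.isAlgebraic t)).symm
    have h1 : Good K F := good_insep_simple p g (c := c) (Subtype.ext hc)
      (fun ⟨a, ha⟩ => ht ⟨a, congrArg Subtype.val ha⟩) hgen
    have h2 : Good F L := by
      refine ih (K := F) (L := L) ?_
      have hmul := Module.finrank_mul_finrank K F L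
      have h2 : 2 ≤ Module.finrank K F := by
        by_contra hlt
        have hpos : 0 < Module.finrank K F := Module.finrank_pos
        have : F = ⊥ := IntermediateField.finrank_eq_one_iff.1 (by omega)
        rw [this, IntermediateField.mem_bot] at htF
        exact ht htF
      nlinarith
    exact good_tower h1 h2

theorem good_of_finite {K L : Type u} [Field K] [Field L] [Algebra K L] [FiniteDimensional K L] :
    Good K L :=
  good_tower (E := separableClosure K L) good_of_isSeparable
    (good_of_isPurelyInseparable _ le_rfl)

theorem good_adjoin_simple {E L : Type u} [Field E] [Field L] [Algebra E L] (a : L) :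
    Good E (IntermediateField.adjoin E ({a} : Set L)) := by
  by_cases ha : IsAlgebraic E a
  · haveI := IntermediateField.adjoin.finiteDimensional ha.isIntegral
    exact good_of_finite
  · let F := IntermediateField.adjoin E ({a} : Set L)
    let g : F := ⟨a, IntermediateField.mem_adjoin_simple_self E a⟩
    refine good_transcendental g (fun hg => ha (hg.algHom F.val)) ?_
    apply IntermediateField.map_injective F.val
    rw [IntermediateField.adjoin_map, Set.image_singleton, ← AlgHom.fieldRange_eq_map,
      IntermediateField.fieldRange_val]
    rfl

theorem good_of_essFiniteType {K L : Type u} [Field K] [Field L] [Algebra K L]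
    [Algebra.EssFiniteType K L] : Good K L := by
  classical
  obtain ⟨s, hs⟩ := IntermediateField.fg_top K L
  suffices ∀ s : Finset L, Good K (IntermediateField.adjoin K (s : Set L)) by
    have h := this s
    rw [hs] at h
    exact good_of_algEquiv IntermediateField.topEquiv h
  intro s
  induction s using Finset.induction_on with
  | empty =>
    rw [Finset.coe_empty, IntermediateField.adjoin_empty]
    exact good_of_surjective (IntermediateField.botEquiv K L).symm.surjective
  | insert a s _ ih =>
    let E := IntermediateField.adjoin K (s : Set L)
    have h := good_tower ih (good_adjoin_simple (E := E) a)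
    have heq : (IntermediateField.adjoin E ({a} : Set L)).restrictScalars K =
        IntermediateField.adjoin K ((insert a s : Finset L) : Set L) := by
      rw [IntermediateField.adjoin_adjoin_left, Finset.coe_insert, Set.union_singleton]
    rw [← heq]
    exact good_of_algEquiv (AlgEquiv.refl : _ ≃ₐ[K] _) h

end Groth.Agent.FieldIndex
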