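import Groth.Agent.FieldIndex.LinAlg
import Groth.Agent.PBasis.Derivations

/-!
# The index `dim Ω_{L/K} - dim Υ_{L/K}` of a finitely generated field extension
-/

set_option autoImplicit false
universe u

open scoped TensorProduct

namespace Groth.Agent.FieldIndex

open EGA41

section Basic

variable (K L : Type u) [Field K] [Field L] [Algebra K L]

/-- The map `L ⊗ Ω_K → Ω_L`. -/
noncomputable abbrev fmap : L ⊗[K] Ω[K⁄ℤ] →ₗ[L] Ω[L⁄ℤ] := KaehlerDifferential.mapBaseChange ℤ K L

/-- The cokernel is `Ω_{L/K}`. -/
noncomputable def cokerEquiv : (Ω[L⁄ℤ] ⧸ LinearMap.range (fmap K L)) ≃ₗ[L] Ω[L⁄K] :=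
  (Submodule.quotEquivOfEq _ _
      (LinearMap.exact_iff.1 (KaehlerDifferential.exact_mapBaseChange_map ℤ K L)).symm).trans
    ((KaehlerDifferential.map ℤ K L L).quotKerEquivOfSurjective
      (KaehlerDifferential.map_surjective_of_surjective ℤ K L L Function.surjective_id))

theorem idx_fmap : idx (fmap K L) = (Module.finrank L (Ω[L⁄K]) : ℤ) -
    Module.finrank L (LinearMap.ker (fmap K L)) := by
  simp only [idx, (cokerEquiv K L).finrank_eq]

theorem isFred_fmap_iff : IsFred (fmap K L) ↔
    Module.Finite L (LinearMap.ker (fmap K L)) ∧ Module.Finite L (Ω[L⁄K]) :=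
  and_congr_right fun _ => ⟨fun _ => Module.Finite.equiv (cokerEquiv K L),
    fun _ => Module.Finite.equiv (cokerEquiv K L).symm⟩

end Basic

/-- `L/K` has index `n` equal to its transcendence degree. -/
def Good (K L : Type u) [Field K] [Field L] [Algebra K L] : Prop :=
  IsFred (fmap K L) ∧ ∃ n : ℕ, Algebra.trdeg K L = n ∧ idx (fmap K L) = n

variable {K E L : Type u} [Field K] [Field E] [Field L] [Algebra K E] [Algebra E L] [Algebra K L]
  [IsScalarTower K E L]

theorem fmap_tower : fmap K L ∘ₗ
      (TensorProduct.AlgebraTensorModule.cancelBaseChange K E L L (Ω[K⁄ℤ])).toLinearMap =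
    fmap E L ∘ₗ (fmap K E).baseChange L := by
  refine LinearMap.ext fun w => ?_
  simp only [LinearMap.comp_apply, LinearEquiv.coe_coe]
  induction w using TensorProduct.induction_on with
  | zero => simp
  | add u v hu hv => simp only [map_add, hu, hv]
  | tmul l y =>
    induction y using TensorProduct.induction_on with
    | zero => simp
    | add u v hu hv => simp only [TensorProduct.tmul_add, map_add, hu, hv]
    | tmul c ω =>
      simp only [TensorProduct.AlgebraTensorModule.cancelBaseChange_tmul, LinearMap.baseChange_tmul,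
        KaehlerDifferential.mapBaseChange_tmul, LinearMap.map_smul_of_tower]
      rw [smul_assoc, smul_comm l c]
      congr 2
      have hω : ω ∈ Submodule.span K (Set.range (KaehlerDifferential.D ℤ K)) := by
        rw [KaehlerDifferential.span_range_derivation]; trivial
      induction hω using Submodule.span_induction with
      | mem _ h =>
        obtain ⟨a, rfl⟩ := h
        simp only [KaehlerDifferential.map_D, ← IsScalarTower.algebraMap_apply]
      | zero => simp
      | add _ _ _ _ h1 h2 => simp [h1, h2]
      | smul a η _ h => simp only [map_smul, LinearMap.map_smul_of_tower, h]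

theorem good_tower (h1 : Good K E) (h2 : Good E L) : Good K L := by
  obtain ⟨f1, n, hn, hi1⟩ := h1
  obtain ⟨f2, m, hm, hi2⟩ := h2
  obtain ⟨fb, hib⟩ := isFred_baseChange L f1
  obtain ⟨fc, hic⟩ := isFred_comp f2 fb
  let e := TensorProduct.AlgebraTensorModule.cancelBaseChange K E L L (Ω[K⁄ℤ])
  have he : fmap K L = (fmap E L ∘ₗ (fmap K E).baseChange L) ∘ₗ e.symm.toLinearMap := by
    rw [← fmap_tower]
    exact LinearMap.ext fun z => by simp [e]
  obtain ⟨fe, hie⟩ := isFred_of_bijective e.symm.bijective
  obtain ⟨ff, hif⟩ := isFred_comp fc fe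
  refine ⟨he ▸ ff, n + m, ?_, ?_⟩
  · rw [← trdeg_add_eq K E (A := L), hn, hm]; push_cast; rfl
  · rw [he, hif, hic, hib, hi1, hi2, hie]; push_cast; ring

theorem good_of_algEquiv {L' : Type u} [Field L'] [Algebra K L'] (e : L ≃ₐ[K] L') (h : Good K L) :
    Good K L' := by
  letI : Algebra L L' := e.toAlgHom.toRingHom.toAlgebra
  haveI : IsScalarTower K L L' := IsScalarTower.of_algebraMap_eq fun x => (e.commutes x).symm
  refine good_tower h ?_
  have hb : Function.Bijective (algebraMap L L') := e.bijective
  haveI : Algebra.FormallyEtale L L' :=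
    Algebra.FormallyEtale.of_equiv (AlgEquiv.ofBijective (Algebra.ofId L L') hb)
  haveI : Algebra.IsIntegral L L' := Algebra.isIntegral_of_surjective hb.2
  obtain ⟨hf, hi⟩ := isFred_of_bijective
    (KaehlerDifferential.tensorKaehlerEquivOfFormallyEtale ℤ L L').bijective
  exact ⟨hf, 0, by rw [trdeg_eq_zero]; simp, (show idx (fmap L L') = 0 from hi).trans Nat.cast_zero.symm⟩

theorem good_of_isSeparable [Algebra.IsSeparable K L] : Good K L := by
  haveI : Algebra.FormallyEtale K L := Algebra.FormallyEtale.of_isSeparable K L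
  obtain ⟨hf, hi⟩ := isFred_of_bijective
    (KaehlerDifferential.tensorKaehlerEquivOfFormallyEtale ℤ K L).bijective
  exact ⟨hf, 0, by rw [trdeg_eq_zero]; simp, (show idx (fmap K L) = 0 from hi).trans Nat.cast_zero.symm⟩

theorem good_transcendental (t : L) (ht : Transcendental K t)
    (hgen : IntermediateField.adjoin K {t} = ⊤) : Good K L := by
  let ψ : Polynomial K →+* L := (Polynomial.aeval t : Polynomial K →ₐ[K] L).toRingHom
  have hψ : Function.Injective ψ := transcendental_iff_injective.1 ht
  letI : Algebra (Polynomial K) L := ψ.toAlgebra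
  haveI : IsScalarTower K (Polynomial K) L :=
    IsScalarTower.of_algebraMap_eq fun a => ((Polynomial.aeval t).commutes a).symm
  haveI : FaithfulSMul (Polynomial K) L := (faithfulSMul_iff_algebraMap_injective _ _).2 hψ
  haveI : IsFractionRing (Polynomial K) L := IsFractionRing.of_field (Polynomial K) L fun z => by
    have hz : z ∈ IntermediateField.adjoin K {t} := by rw [hgen]; trivial
    obtain ⟨r, s, rfl⟩ := (IntermediateField.mem_adjoin_simple_iff (F := K) z).1 hz
    exact ⟨r, s, rfl⟩
  haveI : Algebra.FormallyEtale (Polynomial K) L :=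
    Algebra.FormallyEtale.of_isLocalization (nonZeroDivisors (Polynomial K))
  haveI : Algebra.FormallySmooth K L := Algebra.FormallySmooth.comp K (Polynomial K) L
  have hk : LinearMap.ker (fmap K L) = ⊥ :=
    LinearMap.ker_eq_bot.2 Groth.Agent.PBasis.injective_mapBaseChange_of_formallySmooth
  let e := (KaehlerDifferential.tensorKaehlerEquivOfFormallyEtale K (Polynomial K) L).symm.trans
    (LinearEquiv.baseChange (Polynomial K) L _ _ (KaehlerDifferential.polynomialEquiv K)) |>.trans
    (TensorProduct.AlgebraTensorModule.rid (Polynomial K) L L)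
  have hfin : Module.Finite L (Ω[L⁄K]) := Module.Finite.equiv e.symm
  refine ⟨(isFred_fmap_iff K L).2 ⟨by rw [hk]; infer_instance, hfin⟩, 1, ?_, ?_⟩
  · haveI : Algebra.IsAlgebraic (Polynomial K) L := IsLocalization.isAlgebraic L (nonZeroDivisors _)
    rw [← trdeg_add_eq K (Polynomial K) (A := L), trdeg_eq_zero (R := Polynomial K) (A := L),
      Polynomial.trdeg_of_isDomain, add_zero]
    simp
  · rw [idx_fmap, hk, finrank_bot, e.finrank_eq, Module.finrank_self]
    simp

theorem good_insep_simple (p : ℕ) [Fact p.Prime] [CharP K p] (t : L) {c : K}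
    (hc : algebraMap K L c = t ^ p) (ht : t ∉ Set.range (algebraMap K L))
    (hgen : Algebra.adjoin K {t} = ⊤) : Good K L := by
  haveI : CharP L p := charP_of_injective_algebraMap (algebraMap K L).injective p
  have hp : p ≠ 0 := (Fact.out : p.Prime).ne_zero
  have hinj := (algebraMap K L).injective
  have hpow : ∀ y : L, y ^ p ∈ Set.range (algebraMap K L) := fun y => by
    have hy : y ∈ Algebra.adjoin K {t} := by rw [hgen]; trivial
    induction hy using Algebra.adjoin_induction with
    | mem _ h => rw [Set.mem_singleton_iff.1 h]; exact ⟨c, hc⟩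
    | algebraMap a => exact ⟨a ^ p, map_pow _ _ _⟩
    | add u v _ _ h1 h2 =>
      obtain ⟨a, ha⟩ := h1; obtain ⟨b, hb⟩ := h2
      exact ⟨a + b, by rw [map_add, ha, hb, add_pow_char]⟩
    | mul u v _ _ h1 h2 =>
      obtain ⟨a, ha⟩ := h1; obtain ⟨b, hb⟩ := h2
      exact ⟨a * b, by rw [map_mul, ha, hb, mul_pow]⟩
  have hA0 : pPowerSubalgebra p K L = ⊥ := Groth.Agent.PBasis.pPowerSubalgebra_eq_bot hpow
  let x : PUnit.{u+1} → L := fun _ => t
  have hx : IsPBasis p K x := by
    refine ⟨(Groth.Agent.PBasis.isPIndependent_iff_notMem x).2 fun a => ?_, ?_⟩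
    · rw [show x '' {b | b ≠ a} = ∅ by ext; simp, Algebra.adjoin_empty, Algebra.mem_bot]
      rintro ⟨⟨y, hy⟩, rfl⟩
      exact ht (Groth.Agent.PBasis.mem_range_of_mem hpow hy)
    · rw [Groth.Agent.PBasis.isPGenerating_iff hp]
      refine top_unique fun y hy0 => ?_
      clear hy0
      have hy : y ∈ Algebra.adjoin K {t} := by rw [hgen]; trivial
      induction hy using Algebra.adjoin_induction with
      | mem _ h => exact Algebra.subset_adjoin ⟨PUnit.unit, (Set.mem_singleton_iff.1 h).symm⟩
      | algebraMap a =>
        exact (Algebra.adjoin (pPowerSubalgebra p K L) (Set.range x)).algebraMap_mem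
          ⟨algebraMap K L a, Subalgebra.algebraMap_mem _ a⟩
      | add _ _ _ _ h1 h2 => exact Subalgebra.add_mem _ h1 h2
      | mul _ _ _ _ h1 h2 => exact Subalgebra.mul_mem _ h1 h2
  have hspan := (Groth.Agent.PBasis.isPGenerating_iff_span x).1 hx.2
  have hli := (Groth.Agent.PBasis.isPIndependent_iff_linearIndependent x).1 hx.1
  let bΩ : Module.Basis PUnit.{u+1} L (Ω[L⁄K]) := Module.Basis.mk hli hspan.ge
  let w : L ⊗[K] Ω[K⁄ℤ] := (1 : L) ⊗ₜ KaehlerDifferential.D ℤ K c
  have hw0 : fmap K L w = 0 := by
    simp only [fmap, w, KaehlerDifferential.mapBaseChange_tmul, one_smul, KaehlerDifferential.map_D, hc,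
      Derivation.leibniz_pow, ← Nat.cast_smul_eq_nsmul L, CharP.cast_eq_zero, zero_smul]
  have hw : w ≠ 0 := by
    intro hw0'
    let k0 := (frobenius K p).fieldRange
    have hck : c ∉ (⊥ : IntermediateField k0 K) := by
      rintro hc'
      obtain ⟨⟨_, b, rfl⟩, hb⟩ := IntermediateField.mem_bot.1 hc'
      apply ht
      refine ⟨b, (frobenius_inj L p) ?_⟩
      show (algebraMap K L b) ^ p = t ^ p
      rw [← map_pow, ← hc]
      exact congrArg _ hb
    obtain ⟨D, -, hD⟩ := Groth.Agent.PBasis.exists_derivation_apply_eq_one (p := p)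
      (⊥ : IntermediateField k0 K) (fun y => IntermediateField.mem_bot.2 ⟨⟨y ^ p, y, rfl⟩, rfl⟩) hck
    let D' : Derivation ℤ K K := D.restrictScalars ℤ
    have := congrArg (D'.liftKaehlerDifferential.baseChange L) hw0'
    simp only [w, LinearMap.baseChange_tmul, Derivation.liftKaehlerDifferential_comp_D, map_zero] at this
    have h1 : D' c = 1 := hD
    rw [h1] at this
    exact one_ne_zero (α := L) (by simpa using congrArg (TensorProduct.rid K L) this)
  have hker : LinearMap.ker (fmap K L) = Submodule.span L {w} := by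
    refine le_antisymm (fun z hz => ?_) (Submodule.span_le.2 (Set.singleton_subset_iff.2 hw0))
    let S := Submodule.span L {w}
    obtain ⟨D', hD', -⟩ := Groth.Agent.PBasis.exists_derivation' hp hinj hpow hx
      (L := (L ⊗[K] Ω[K⁄ℤ]) ⧸ S)
      { toFun := fun a => S.mkQ ((1 : L) ⊗ₜ[K] KaehlerDifferential.D ℤ K a)
        map_zero' := by simp
        map_add' := fun a b => by simp [TensorProduct.tmul_add] }
      (fun a b => by
        show S.mkQ _ = algebraMap K L a • S.mkQ _ + algebraMap K L b • S.mkQ _
        rw [Derivation.leibniz, TensorProduct.tmul_add, TensorProduct.tmul_smul, TensorProduct.tmul_smul,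
          ← algebraMap_smul L a, ← algebraMap_smul L b, map_add, map_smul, map_smul])
      (fun i a ha => (Submodule.Quotient.mk_eq_zero S).2 (by
        rw [hinj (ha.trans hc.symm : algebraMap K L a = algebraMap K L c)]
        exact Submodule.mem_span_singleton_self w)) 0
    have hψ : ∀ z, D'.liftKaehlerDifferential (fmap K L z) = S.mkQ z := by
      intro z
      induction z using TensorProduct.induction_on with
      | zero => simp
      | add u v hu hv => simp [hu, hv]
      | tmul l ω =>
        have hω : ω ∈ Submodule.span K (Set.range (KaehlerDifferential.D ℤ K)) := by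
          rw [KaehlerDifferential.span_range_derivation]; trivial
        have : D'.liftKaehlerDifferential (KaehlerDifferential.map ℤ ℤ K L ω) =
            S.mkQ ((1 : L) ⊗ₜ[K] ω) := by
          induction hω using Submodule.span_induction with
          | mem _ h =>
            obtain ⟨a, rfl⟩ := h
            rw [KaehlerDifferential.map_D, Derivation.liftKaehlerDifferential_comp_D]
            exact hD' a
          | zero => simp
          | add _ _ _ _ h1 h2 => simp [h1, h2, TensorProduct.tmul_add]
          | smul a η _ h => simp only [map_smul, LinearMap.map_smul_of_tower, h, TensorProduct.tmul_smul]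
        rw [fmap, KaehlerDifferential.mapBaseChange_tmul, map_smul, this, ← map_smul,
          TensorProduct.smul_tmul', smul_eq_mul, mul_one]
    have := hψ z
    rw [LinearMap.mem_ker.1 hz, map_zero] at this
    exact (Submodule.Quotient.mk_eq_zero S).1 this.symm
  refine ⟨(isFred_fmap_iff K L).2 ⟨by rw [hker]; infer_instance, Module.Finite.of_basis bΩ⟩, 0, ?_, ?_⟩
  · haveI : Algebra.IsAlgebraic K L := ⟨fun y => by
      obtain ⟨a, ha⟩ := hpow y
      exact (IsIntegral.of_pow (Fact.out : p.Prime).pos (ha ▸ isIntegral_algebraMap)).isAlgebraic⟩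
    rw [trdeg_eq_zero]; simp
  · rw [idx_fmap, Module.finrank_eq_card_basis bΩ, hker, finrank_span_singleton hw]
    simp

end Groth.Agent.FieldIndex
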