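import Groth.Agent.FieldIndex.LinAlg
import Mathlib

/-!
# Fredholm indices along maps of short exact sequences
-/

set_option autoImplicit false
universe v

namespace Groth.Agent.FieldIndex

variable {K : Type v} [Field K]

section
variable {U V W : Type v} [AddCommGroup U] [AddCommGroup V] [AddCommGroup W] [Module K U] [Module K V] [Module K W]

theorem finite_of_injective_of_isFred {h : U →ₗ[K] V} (hh : IsFred h) (N : Submodule K V) [Module.Finite K N] :
    Module.Finite K (N.comap h) := by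
  haveI := hh.1
  refine Module.Finite.iff_fg.2 (Submodule.fg_of_fg_map_of_fg_inf_ker h ?_ ?_)
  · haveI : Module.Finite K ↥((N.comap h).map h) :=
      Submodule.finiteDimensional_of_le (S₂ := N) (Submodule.map_comap_le _ _)
    exact Module.Finite.iff_fg.1 this
  · haveI : Module.Finite K ↥(N.comap h ⊓ LinearMap.ker h) :=
      Submodule.finiteDimensional_of_le (S₂ := LinearMap.ker h) inf_le_right
    exact Module.Finite.iff_fg.1 this

theorem isFred_of_comp_left {g : V →ₗ[K] W} {h : U →ₗ[K] V} (hgh : IsFred (g ∘ₗ h)) (hg : IsFred g) :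
    IsFred h := by
  haveI := hgh.1; haveI := hgh.2; haveI := hg.1
  refine ⟨Submodule.finiteDimensional_of_le (S₂ := LinearMap.ker (g ∘ₗ h)) (LinearMap.ker_le_ker_comp _ _), ?_⟩
  let φ := (LinearMap.range h).mapQ (LinearMap.range (g ∘ₗ h)) g
    (by rintro _ ⟨x, rfl⟩; exact ⟨x, rfl⟩)
  haveI : Module.Finite K (LinearMap.ker φ) := by
    let ψ := (LinearMap.range h).mkQ.comp (LinearMap.ker g).subtype
    refine Module.Finite.of_surjective (ψ.codRestrict (LinearMap.ker φ) fun x => ?_) ?_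
    · show φ (Submodule.Quotient.mk x.1) = 0
      rw [Submodule.mapQ_apply, LinearMap.mem_ker.1 x.2]; rfl
    · rintro ⟨y, hy⟩
      obtain ⟨v, rfl⟩ := Submodule.mkQ_surjective _ y
      have : g v ∈ LinearMap.range (g ∘ₗ h) := (Submodule.Quotient.mk_eq_zero _).1 hy
      obtain ⟨u, hu⟩ := this
      refine ⟨⟨v - h u, by simp [← hu]⟩, Subtype.ext ?_⟩
      show Submodule.Quotient.mk (v - h u) = Submodule.Quotient.mk v
      rw [Submodule.Quotient.eq]; simp
  haveI : Module.Finite K (LinearMap.range φ) :=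
    Submodule.finiteDimensional_of_le (S₂ := (⊤ : Submodule K _)) le_top
  haveI : Module.Finite K (_ ⧸ LinearMap.ker φ) := Module.Finite.equiv φ.quotKerEquivRange.symm
  exact Module.Finite.of_submodule_quotient (LinearMap.ker φ)

theorem isFred_of_comp_right {g : V →ₗ[K] W} {h : U →ₗ[K] V} (hgh : IsFred (g ∘ₗ h)) (hh : IsFred h) :
    IsFred g := by
  haveI := hgh.1; haveI := hgh.2; haveI := hh.2
  refine ⟨?_, ?_⟩
  · haveI : Module.Finite K ↥((LinearMap.ker g).map (LinearMap.range h).mkQ) := inferInstance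
    haveI : Module.Finite K ↥(LinearMap.ker g ⊓ LinearMap.range h) := by
      rw [inf_comm, ← Submodule.map_comap_eq, ← LinearMap.ker_comp]
      exact Module.Finite.map _ _
    refine Module.Finite.iff_fg.2 (Submodule.fg_of_fg_map_of_fg_inf_ker (LinearMap.range h).mkQ
      (Module.Finite.iff_fg.1 inferInstance) ?_)
    rw [Submodule.ker_mkQ]
    exact Module.Finite.iff_fg.1 inferInstance
  · exact Module.Finite.of_surjective (Submodule.factor (LinearMap.range_comp_le_range h g))
      (Submodule.factor_surjective _)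

theorem conj {U' V' : Type v} [AddCommGroup U'] [AddCommGroup V'] [Module K U'] [Module K V']
    {f : U →ₗ[K] V} {g : U' →ₗ[K] V'} (e : U ≃ₗ[K] U') (e' : V ≃ₗ[K] V')
    (h : ∀ x, e' (f x) = g (e x)) (hg : IsFred g) : IsFred f ∧ idx f = idx g := by
  have hf : f = e'.symm.toLinearMap ∘ₗ (g ∘ₗ e.toLinearMap) := LinearMap.ext fun x => by
    simp [← h]
  obtain ⟨h1, i1⟩ := isFred_of_bijective (f := e.toLinearMap) e.bijective
  obtain ⟨h2, i2⟩ := isFred_of_bijective (f := e'.symm.toLinearMap) e'.symm.bijective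
  obtain ⟨h3, i3⟩ := isFred_comp hg h1
  obtain ⟨h4, i4⟩ := isFred_comp h2 h3
  exact ⟨hf ▸ h4, by rw [hf, i4, i3, i1, i2]; ring⟩

end

section Prod
variable {A A' C C' : Type v} [AddCommGroup A] [AddCommGroup A'] [AddCommGroup C] [AddCommGroup C']
  [Module K A] [Module K A'] [Module K C] [Module K C'] (a : A →ₗ[K] A') (c : C →ₗ[K] C')

/-- `ker (a × 1) ≃ ker a` -/
noncomputable def kerProdId : LinearMap.ker (a.prodMap (LinearMap.id : C →ₗ[K] C)) ≃ₗ[K] LinearMap.ker a where
  toFun x := ⟨x.1.1, (Prod.ext_iff.1 (LinearMap.mem_ker.1 x.2)).1⟩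
  invFun x := ⟨(x.1, 0), LinearMap.mem_ker.2 (Prod.ext (LinearMap.mem_ker.1 x.2) rfl)⟩
  left_inv x := Subtype.ext (Prod.ext rfl (Prod.ext_iff.1 (LinearMap.mem_ker.1 x.2)).2.symm)
  right_inv _ := rfl
  map_add' _ _ := rfl
  map_smul' _ _ := rfl

/-- `coker (a × 1) ≃ coker a` -/
noncomputable def cokerProdId : ((A' × C) ⧸ LinearMap.range (a.prodMap (LinearMap.id : C →ₗ[K] C))) ≃ₗ[K]
    (A' ⧸ LinearMap.range a) := by
  let ψ : A' × C →ₗ[K] A' ⧸ LinearMap.range a := (LinearMap.range a).mkQ.comp (LinearMap.fst K A' C)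
  have hψ : LinearMap.ker ψ = LinearMap.range (a.prodMap LinearMap.id) := by
    ext ⟨x, y⟩
    simp [ψ, Submodule.Quotient.mk_eq_zero]
  exact (Submodule.quotEquivOfEq _ _ hψ.symm).trans
    (ψ.quotKerEquivOfSurjective ((Submodule.mkQ_surjective _).comp Prod.fst_surjective))

theorem prodId : (IsFred (a.prodMap (LinearMap.id : C →ₗ[K] C)) ↔ IsFred a) ∧
    idx (a.prodMap (LinearMap.id : C →ₗ[K] C)) = idx a := by
  refine ⟨and_congr ⟨fun _ => Module.Finite.equiv (kerProdId (C := C) a), fun _ => Module.Finite.equiv (kerProdId (C := C) a).symm⟩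
    ⟨fun _ => Module.Finite.equiv (cokerProdId (C := C) a), fun _ => Module.Finite.equiv (cokerProdId (C := C) a).symm⟩, ?_⟩
  simp only [idx, (kerProdId (C := C) a).finrank_eq, (cokerProdId (C := C) a).finrank_eq]

theorem idProd (h : IsFred c) : IsFred ((LinearMap.id : A →ₗ[K] A).prodMap c) ∧
    idx ((LinearMap.id : A →ₗ[K] A).prodMap c) = idx c := by
  obtain ⟨h1, h2⟩ := conj (f := (LinearMap.id : A →ₗ[K] A).prodMap c) (g := c.prodMap (LinearMap.id : A →ₗ[K] A))
    (LinearEquiv.prodComm K A C) (LinearEquiv.prodComm K A C') (fun _ => rfl) ((prodId c).1.2 h)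
  exact ⟨h1, h2.trans (prodId c).2⟩

theorem idProd_iff : IsFred ((LinearMap.id : A →ₗ[K] A).prodMap c) ↔ IsFred c := by
  refine ⟨fun h => ?_, fun h => (idProd c h).1⟩
  exact (prodId c).1.1 (conj (f := c.prodMap (LinearMap.id : A →ₗ[K] A)) (g := (LinearMap.id : A →ₗ[K] A).prodMap c)
    (LinearEquiv.prodComm K C A) (LinearEquiv.prodComm K C' A) (fun _ => rfl) h).1

end Prod

variable {A B C A' B' C' : Type v} [AddCommGroup A] [AddCommGroup B] [AddCommGroup C] [AddCommGroup A']
  [AddCommGroup B'] [AddCommGroup C'] [Module K A] [Module K B] [Module K C] [Module K A'] [Module K B']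
  [Module K C']

/-- index along a map of short exact sequences -/
theorem ladder {i : A →ₗ[K] B} {π : B →ₗ[K] C} {i' : A' →ₗ[K] B'} {π' : B' →ₗ[K] C'}
    {a : A →ₗ[K] A'} {b : B →ₗ[K] B'} {c : C →ₗ[K] C'}
    (hi : Function.Injective i) (hπ : Function.Surjective π) (hex : Function.Exact i π)
    (hi' : Function.Injective i') (hπ' : Function.Surjective π') (hex' : Function.Exact i' π')
    (h1 : ∀ x, b (i x) = i' (a x)) (h2 : ∀ y, π' (b y) = c (π y))
    (hb : IsFred b) (hac : IsFred a ∨ IsFred c) : IsFred a ∧ IsFred c ∧ idx b = idx a + idx c := by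
  obtain ⟨s, hs⟩ := π.exists_rightInverse_of_surjective (LinearMap.range_eq_top.2 hπ)
  obtain ⟨s', hs'⟩ := π'.exists_rightInverse_of_surjective (LinearMap.range_eq_top.2 hπ')
  have hs1 : ∀ y, π (s y) = y := LinearMap.congr_fun hs
  have hs1' : ∀ y, π' (s' y) = y := LinearMap.congr_fun hs'
  have bij : ∀ {A B C : Type v} [AddCommGroup A] [AddCommGroup B] [AddCommGroup C] [Module K A] [Module K B]
      [Module K C] (i : A →ₗ[K] B) (π : B →ₗ[K] C) (s : C →ₗ[K] B), Function.Injective i →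
      Function.Exact i π → (∀ y, π (s y) = y) → Function.Bijective (i.coprod s) := by
    intro A B C _ _ _ _ _ _ i π s hi hex hs
    refine ⟨(injective_iff_map_eq_zero _).2 fun x hx => ?_, fun y => ?_⟩
    · simp only [LinearMap.coprod_apply] at hx
      have := congrArg π hx
      rw [map_add, hex.apply_apply_eq_zero, hs, zero_add, map_zero] at this
      rw [this, map_zero, add_zero] at hx
      exact Prod.ext (hi (hx.trans (map_zero i).symm)) this
    · obtain ⟨x, hx⟩ := (hex (y - s (π y))).1 (by rw [map_sub, hs, sub_self])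
      exact ⟨(x, π y), by simp [hx]⟩
  let e := LinearEquiv.ofBijective _ (bij i π s hi hex hs1)
  let e' := LinearEquiv.ofBijective _ (bij i' π' s' hi' hex' hs1')
  have hg : ∀ y, (b ∘ₗ s - s' ∘ₗ c) y ∈ LinearMap.range i' := fun y =>
    (hex' _).1 (by simp [h2, hs1, hs1'])
  let h : C →ₗ[K] A' := (LinearEquiv.ofInjective i' hi').symm.toLinearMap ∘ₗ
    LinearMap.codRestrict (LinearMap.range i') (b ∘ₗ s - s' ∘ₗ c) hg
  have hh : ∀ y, i' (h y) = b (s y) - s' (c y) := fun y =>
    congrArg Subtype.val ((LinearEquiv.ofInjective i' hi').apply_symm_apply ⟨_, hg y⟩)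
  let Sh : A' × C →ₗ[K] A' × C := (LinearMap.fst K A' C + h ∘ₗ LinearMap.snd K A' C).prod (LinearMap.snd K A' C)
  have hSh : Function.Bijective Sh := by
    refine ⟨(injective_iff_map_eq_zero _).2 fun x hx => ?_, fun y => ⟨(y.1 - h y.2, y.2), by simp [Sh]⟩⟩
    simp only [Sh, LinearMap.prod_apply, Function.prod_apply, LinearMap.add_apply, LinearMap.fst_apply,
      LinearMap.comp_apply, LinearMap.snd_apply, Prod.mk_eq_zero] at hx
    obtain ⟨x1, x2⟩ := x
    simp only at hx
    obtain ⟨hx1, rfl⟩ := hx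
    simpa using hx1
  obtain ⟨hShF, hShI⟩ := isFred_of_bijective hSh
  let P := a.prodMap (LinearMap.id : C →ₗ[K] C)
  let Q := (LinearMap.id : A' →ₗ[K] A').prodMap c
  have hF : ∀ x, e' (((Q ∘ₗ Sh) ∘ₗ P) x) = b (e x) := fun x => by
    simp [e, e', Q, Sh, P, hh, h1, map_add]; abel
  obtain ⟨hbig, hbigI⟩ := conj (f := (Q ∘ₗ Sh) ∘ₗ P) (g := b) e e' hF hb
  have key : IsFred a ∧ IsFred c := by
    rcases hac with ha | hc
    · refine ⟨ha, (idProd_iff (A := A') c).1 ?_⟩
      exact isFred_of_comp_right (isFred_of_comp_right hbig ((prodId (C := C) a).1.2 ha)) hShF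
    · refine ⟨(prodId (C := C) a).1.1 ?_, hc⟩
      exact isFred_of_comp_left hbig (isFred_comp (idProd (A := A') c hc).1 hShF).1
  refine ⟨key.1, key.2, ?_⟩
  obtain ⟨q1, q2⟩ := idProd (A := A') c key.2
  obtain ⟨r1, r2⟩ := isFred_comp q1 hShF
  obtain ⟨-, r4⟩ := isFred_comp r1 ((prodId (C := C) a).1.2 key.1)
  rw [← hbigI, r4, r2, hShI, (prodId (C := C) a).2, q2]
  ring

variable {H H' Q Q' : Type v} [AddCommGroup H] [AddCommGroup H'] [AddCommGroup Q] [AddCommGroup Q']
  [Module K H] [Module K H'] [Module K Q] [Module K Q']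

/-- index of the maps on kernels and cokernels of a square with Fredholm verticals -/
theorem square {u : A →ₗ[K] B} {v : A' →ₗ[K] B'} {p : A →ₗ[K] A'} {q : B →ₗ[K] B'}
    {i : H →ₗ[K] A} {i' : H' →ₗ[K] A'} {π : B →ₗ[K] Q} {π' : B' →ₗ[K] Q'}
    {β : H →ₗ[K] H'} {α : Q →ₗ[K] Q'}
    (hsq : ∀ z, q (u z) = v (p z)) (hp : IsFred p) (hq : IsFred q)
    (hi : Function.Injective i) (hiu : Function.Exact i u) (hi' : Function.Injective i')
    (hiv : Function.Exact i' v) (hπ : Function.Surjective π) (huπ : Function.Exact u π)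
    (hπ' : Function.Surjective π') (hvπ : Function.Exact v π')
    (hβ : ∀ z, p (i z) = i' (β z)) (hα : ∀ z, π' (q z) = α (π z)) :
    IsFred β ∧ IsFred α ∧ idx p - idx q = idx β - idx α := by
  let qI : LinearMap.range u →ₗ[K] LinearMap.range v :=
    (q.comp (LinearMap.range u).subtype).codRestrict (LinearMap.range v)
      (by rintro ⟨_, z, rfl⟩; exact ⟨p z, (hsq z).symm⟩)
  have hqI : IsFred qI := by
    haveI := hq.1; haveI := hp.2
    refine ⟨?_, ?_⟩
    · exact FiniteDimensional.of_injective (LinearMap.codRestrict (LinearMap.ker q)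
        ((LinearMap.range u).subtype.comp (LinearMap.ker qI).subtype)
        (fun x => congrArg Subtype.val (LinearMap.mem_ker.1 x.2)))
        (fun a b h => Subtype.ext (Subtype.ext (congrArg (fun t : LinearMap.ker q => t.1) h)))
    · refine Module.Finite.of_surjective ((LinearMap.range p).mapQ (LinearMap.range qI) v.rangeRestrict ?_) ?_
      · rintro _ ⟨z, rfl⟩
        exact ⟨⟨u z, z, rfl⟩, Subtype.ext (hsq z)⟩
      · intro y
        obtain ⟨⟨_, a, rfl⟩, rfl⟩ := Submodule.mkQ_surjective _ y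
        exact ⟨Submodule.Quotient.mk a, rfl⟩
  obtain ⟨h1, -, e1⟩ := ladder (π := u.rangeRestrict) (π' := v.rangeRestrict) (c := qI) hi
    u.surjective_rangeRestrict (fun z => by rw [Subtype.ext_iff]; exact hiu z) hi' v.surjective_rangeRestrict
    (fun z => by rw [Subtype.ext_iff]; exact hiv z) hβ (fun z => Subtype.ext (hsq z).symm) hp (Or.inr hqI)
  obtain ⟨-, h2, e2⟩ := ladder (i := (LinearMap.range u).subtype) (i' := (LinearMap.range v).subtype) (a := qI)
    Subtype.val_injective hπ (fun z => (huπ z).trans (by simp)) Subtype.val_injective hπ'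
    (fun z => (hvπ z).trans (by simp)) (fun _ => rfl) hα hq (Or.inl hqI)
  exact ⟨h1, h2, by omega⟩

end Groth.Agent.FieldIndex
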