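import Mathlib

/-!
# Index of linear maps with finite kernel and cokernel
-/

set_option autoImplicit false
universe u

open scoped TensorProduct

namespace Groth.Agent.FieldIndex

variable {K : Type u} [Field K] {U V W : Type u} [AddCommGroup U] [Module K U] [AddCommGroup V]
  [Module K V] [AddCommGroup W] [Module K W]

/-- Finite kernel and cokernel. -/
def IsFred (f : V →ₗ[K] W) : Prop :=
  Module.Finite K (LinearMap.ker f) ∧ Module.Finite K (W ⧸ LinearMap.range f)

/-- `dim coker - dim ker`. -/
noncomputable def idx (f : V →ₗ[K] W) : ℤ :=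
  (Module.finrank K (W ⧸ LinearMap.range f) : ℤ) - Module.finrank K (LinearMap.ker f)

theorem finite_and_finrank_of_exact {A B C : Type u} [AddCommGroup A] [Module K A] [AddCommGroup B]
    [Module K B] [AddCommGroup C] [Module K C] (f : A →ₗ[K] B) (g : B →ₗ[K] C)
    (hf : Function.Injective f) (hfg : Function.Exact f g) (hg : Function.Surjective g)
    [Module.Finite K A] [Module.Finite K C] :
    Module.Finite K B ∧ Module.finrank K B = Module.finrank K A + Module.finrank K C := by
  have hfin : Module.Finite K B := Module.Finite.of_exact hfg hg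
  refine ⟨hfin, ?_⟩
  rw [← LinearMap.finrank_range_add_finrank_ker g, LinearMap.range_eq_top.2 hg, finrank_top,
    hfg.linearMap_ker_eq, LinearMap.finrank_range_of_inj hf, add_comm]

theorem isFred_comp {g : V →ₗ[K] W} {h : U →ₗ[K] V} (hg : IsFred g) (hh : IsFred h) :
    IsFred (g ∘ₗ h) ∧ idx (g ∘ₗ h) = idx g + idx h := by
  haveI := hg.1; haveI := hg.2; haveI := hh.1; haveI := hh.2
  -- kernel
  let I : Submodule K V := LinearMap.ker g ⊓ LinearMap.range h
  let a : LinearMap.ker h →ₗ[K] LinearMap.ker (g ∘ₗ h) := Submodule.inclusion fun x hx => by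
    simp [LinearMap.mem_ker.1 hx]
  let b : LinearMap.ker (g ∘ₗ h) →ₗ[K] I :=
    (h ∘ₗ (LinearMap.ker (g ∘ₗ h)).subtype).codRestrict I fun x => ⟨x.2, ⟨x, rfl⟩⟩
  haveI : Module.Finite K I := Module.Finite.of_injective
    (Submodule.inclusion (inf_le_left : I ≤ LinearMap.ker g)) (Submodule.inclusion_injective _)
  have hker := finite_and_finrank_of_exact a b (Submodule.inclusion_injective _)
    (LinearMap.exact_iff.2 (by
      ext x
      simp [a, b, Submodule.range_inclusion, LinearMap.mem_ker, Subtype.ext_iff]))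
    (fun y => by
      obtain ⟨x, hx⟩ := y.2.2
      refine ⟨⟨x, ?_⟩, Subtype.ext hx⟩
      show g (h x) = 0
      rw [hx]; exact y.2.1)
  -- cokernel
  let S : Submodule K V := LinearMap.range h ⊔ LinearMap.ker g
  let q : (W ⧸ LinearMap.range (g ∘ₗ h)) →ₗ[K] W ⧸ LinearMap.range g :=
    Submodule.factor (LinearMap.range_comp_le_range h g)
  let ψ : (V ⧸ S) →ₗ[K] W ⧸ LinearMap.range (g ∘ₗ h) :=
    S.liftQ ((LinearMap.range (g ∘ₗ h)).mkQ ∘ₗ g) (sup_le
      (by rintro _ ⟨x, rfl⟩; exact (Submodule.Quotient.mk_eq_zero _).2 ⟨x, rfl⟩)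
      (fun x hx => (Submodule.Quotient.mk_eq_zero _).2 (by
        rw [LinearMap.mem_ker.1 hx]; exact Submodule.zero_mem _)))
  have hψ : Function.Injective ψ := by
    rw [← LinearMap.ker_eq_bot, Submodule.ker_liftQ_eq_bot']
    refine le_antisymm (sup_le ?_ ?_) ?_
    · rintro _ ⟨x, rfl⟩; exact (Submodule.Quotient.mk_eq_zero _).2 ⟨x, rfl⟩
    · exact fun x hx => (Submodule.Quotient.mk_eq_zero _).2 (by
        rw [LinearMap.mem_ker.1 hx]; exact Submodule.zero_mem _)
    · intro v hv
      obtain ⟨x, hx⟩ := (Submodule.Quotient.mk_eq_zero _).1 hv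
      refine Submodule.mem_sup.2 ⟨h x, ⟨x, rfl⟩, v - h x, ?_, by abel⟩
      rw [LinearMap.mem_ker, map_sub, sub_eq_zero]
      exact hx.symm
  haveI : Module.Finite K (V ⧸ S) := Module.Finite.of_surjective
    (Submodule.factor (le_sup_left : LinearMap.range h ≤ S)) (Submodule.factor_surjective _)
  have hcok := finite_and_finrank_of_exact ψ q hψ
    (fun y => by
      obtain ⟨y, rfl⟩ := Submodule.Quotient.mk_surjective _ y
      constructor
      · intro hy
        obtain ⟨v, hv⟩ := (Submodule.Quotient.mk_eq_zero _).1 hy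
        exact ⟨Submodule.Quotient.mk v, congrArg Submodule.Quotient.mk hv⟩
      · rintro ⟨v, hv⟩
        obtain ⟨v, rfl⟩ := Submodule.Quotient.mk_surjective _ v
        rw [← hv]
        exact (Submodule.Quotient.mk_eq_zero _).2 ⟨v, rfl⟩)
    (Submodule.factor_surjective _)
  -- V / range h
  let c : LinearMap.ker g →ₗ[K] V ⧸ LinearMap.range h :=
    (LinearMap.range h).mkQ ∘ₗ (LinearMap.ker g).subtype
  have hc := LinearMap.finrank_range_add_finrank_ker c
  have hkc : Module.finrank K (LinearMap.ker c) = Module.finrank K I := by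
    refine LinearEquiv.finrank_eq
      { toFun := fun x => ⟨x.1.1, x.1.2, (Submodule.Quotient.mk_eq_zero _).1 x.2⟩
        invFun := fun y => ⟨⟨y.1, y.2.1⟩, (Submodule.Quotient.mk_eq_zero _).2 y.2.2⟩
        map_add' := fun _ _ => rfl
        map_smul' := fun _ _ => rfl
        left_inv := fun _ => rfl
        right_inv := fun _ => rfl }
  let π : (V ⧸ LinearMap.range h) →ₗ[K] V ⧸ S := Submodule.factor (le_sup_left)
  have hVh := finite_and_finrank_of_exact (LinearMap.range c).subtype π Subtype.val_injective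
    (LinearMap.exact_iff.2 (by
      rw [Submodule.range_subtype]
      ext y
      obtain ⟨y, rfl⟩ := Submodule.Quotient.mk_surjective _ y
      refine ⟨fun hy => ?_, ?_⟩
      · obtain ⟨u, ⟨x, rfl⟩, w, hw, rfl⟩ := Submodule.mem_sup.1 ((Submodule.Quotient.mk_eq_zero S).1 hy)
        refine ⟨⟨w, hw⟩, ?_⟩
        show Submodule.Quotient.mk w = _
        rw [Submodule.Quotient.eq]
        exact ⟨-x, by simp⟩
      · rintro ⟨w, hw⟩
        rw [LinearMap.mem_ker, ← hw]
        exact (Submodule.Quotient.mk_eq_zero S).2 (Submodule.mem_sup_right w.2)))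
    (Submodule.factor_surjective _)
  refine ⟨⟨hker.1, hcok.1⟩, ?_⟩
  simp only [idx]
  rw [hker.2, hcok.2]
  have h1 := hVh.2
  push_cast
  omega

theorem isFred_of_bijective {f : V →ₗ[K] W} (hf : Function.Bijective f) : IsFred f ∧ idx f = 0 := by
  have h1 : LinearMap.ker f = ⊥ := LinearMap.ker_eq_bot.2 hf.1
  have h2 : Subsingleton (W ⧸ LinearMap.range f) :=
    Submodule.Quotient.subsingleton_iff.2 (LinearMap.range_eq_top.2 hf.2)
  refine ⟨⟨by rw [h1]; infer_instance, inferInstance⟩, ?_⟩
  simp only [idx]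
  rw [h1, finrank_bot, Module.finrank_zero_of_subsingleton]
  simp

section BaseChange

variable (L : Type u) [Field L] [Algebra K L]

theorem ker_baseChange (h : U →ₗ[K] V) :
    LinearMap.ker (h.baseChange L) = LinearMap.range ((LinearMap.ker h).subtype.baseChange L) :=
  LinearMap.exact_iff.1 (Module.Flat.lTensor_exact (R := K) L (LinearMap.exact_subtype_ker_map h))

theorem isFred_baseChange {h : U →ₗ[K] V} (hh : IsFred h) :
    IsFred (h.baseChange L) ∧ idx (h.baseChange L) = idx h := by
  haveI := hh.1; haveI := hh.2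
  have hi : Function.Injective ((LinearMap.ker h).subtype.baseChange L) :=
    Module.Flat.lTensor_preserves_injective_linearMap _ Subtype.val_injective
  let e1 := (LinearEquiv.ofInjective _ hi).trans
    (LinearEquiv.ofEq _ _ (ker_baseChange L h).symm)
  have hs : Function.Surjective ((LinearMap.range h).mkQ.baseChange L) :=
    LinearMap.lTensor_surjective L (Submodule.mkQ_surjective _)
  have hr : LinearMap.ker ((LinearMap.range h).mkQ.baseChange L) = LinearMap.range (h.baseChange L) :=
    LinearMap.exact_iff.1 (lTensor_exact L (LinearMap.exact_map_mkQ_range h) (Submodule.mkQ_surjective _))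
  let e2 := (Submodule.quotEquivOfEq _ _ hr.symm).trans
    (((LinearMap.range h).mkQ.baseChange L).quotKerEquivOfSurjective hs)
  refine ⟨⟨Module.Finite.equiv e1, Module.Finite.equiv e2.symm⟩, ?_⟩
  simp only [idx, ← e1.finrank_eq, e2.finrank_eq, Module.finrank_baseChange]

end BaseChange

end Groth.Agent.FieldIndex
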