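import Groth.Prelude.Def_EGA41
import Mathlib

/-!
# Surjectivity of imperfection modules under change of base
-/

set_option autoImplicit false
universe u v

open scoped TensorProduct
open EGA41 KaehlerDifferential

namespace Groth.Agent.FieldIndex

theorem imperfection_surj (Λ : Type v) (A B C : Type u) [CommRing Λ] [CommRing A] [CommRing B] [CommRing C]
    [Algebra Λ A] [Algebra Λ B] [Algebra Λ C] [Algebra A B] [Algebra A C] [Algebra B C]
    [IsScalarTower Λ A B] [IsScalarTower Λ A C] [IsScalarTower Λ B C] [IsScalarTower A B C] :
    ∀ ω ∈ EGA41.imperfection A B C, ∃ η ∈ EGA41.imperfection Λ B C,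
      (KaehlerDifferential.map Λ A B B).baseChange C η = ω := by
  intro ω hω
  have hsurj : Function.Surjective ((KaehlerDifferential.map Λ A B B).baseChange C) :=
    LinearMap.lTensor_surjective C
      (KaehlerDifferential.map_surjective_of_surjective Λ A B B Function.surjective_id)
  obtain ⟨η, rfl⟩ := hsurj ω
  have hsq : ∀ η, KaehlerDifferential.mapBaseChange A B C ((KaehlerDifferential.map Λ A B B).baseChange C η) =
      KaehlerDifferential.map Λ A C C (KaehlerDifferential.mapBaseChange Λ B C η) := fun η => by
    induction η using TensorProduct.induction_on with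
    | zero => simp
    | add u v hu hv => simp [hu, hv]
    | tmul c y =>
      rw [LinearMap.baseChange_tmul, KaehlerDifferential.mapBaseChange_tmul,
        KaehlerDifferential.mapBaseChange_tmul, map_smul]
      congr 1
      have hy : y ∈ Submodule.span B (Set.range (KaehlerDifferential.D Λ B)) := by
        rw [KaehlerDifferential.span_range_derivation]; trivial
      induction hy using Submodule.span_induction with
      | mem _ h =>
        obtain ⟨a, rfl⟩ := h
        simp only [KaehlerDifferential.map_D, Algebra.algebraMap_self, RingHom.id_apply]
      | zero => simp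
      | add _ _ _ _ h1 h2 => simp [h1, h2]
      | smul a z _ h =>
        rw [map_smul, map_smul, map_smul, h, ← algebraMap_smul C a (KaehlerDifferential.map Λ Λ B C z),
          map_smul, algebraMap_smul]
  have h0 : KaehlerDifferential.map Λ A C C (KaehlerDifferential.mapBaseChange Λ B C η) = 0 :=
    (hsq η).symm.trans hω
  obtain ⟨ζ, hζ⟩ := (KaehlerDifferential.exact_mapBaseChange_map Λ A C _).1 h0
  -- lift ζ through B ⊗ Ω_A
  let j : C ⊗[A] Ω[A⁄Λ] →ₗ[C] C ⊗[B] Ω[B⁄Λ] :=
    ((TensorProduct.mk B C (Ω[B⁄Λ]) 1).restrictScalars A ∘ₗ KaehlerDifferential.map Λ Λ A B).liftBaseChange C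
  have hj1 : ∀ ζ, KaehlerDifferential.mapBaseChange Λ B C (j ζ) = KaehlerDifferential.mapBaseChange Λ A C ζ :=
    fun ζ => by
    induction ζ using TensorProduct.induction_on with
    | zero => simp
    | add u v hu hv => simp [hu, hv]
    | tmul c y =>
      simp only [j, LinearMap.liftBaseChange_tmul, map_smul, LinearMap.comp_apply,
        LinearMap.restrictScalars_apply, TensorProduct.mk_apply, KaehlerDifferential.mapBaseChange_tmul,
        one_smul]
      congr 1
      have hy : y ∈ Submodule.span A (Set.range (KaehlerDifferential.D Λ A)) := by
        rw [KaehlerDifferential.span_range_derivation]; trivial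
      induction hy using Submodule.span_induction with
      | mem _ h =>
        obtain ⟨a, rfl⟩ := h
        simp only [KaehlerDifferential.map_D, ← IsScalarTower.algebraMap_apply]
      | zero => simp
      | add _ _ _ _ h1 h2 => simp [h1, h2]
      | smul a z _ h =>
        simp only [map_smul, LinearMap.map_smul_of_tower, h]
  have hj2 : ∀ ζ, (KaehlerDifferential.map Λ A B B).baseChange C (j ζ) = 0 := fun ζ => by
    induction ζ using TensorProduct.induction_on with
    | zero => simp
    | add u v hu hv => simp [hu, hv]
    | tmul c y =>
      simp only [j, LinearMap.liftBaseChange_tmul, map_smul, LinearMap.comp_apply,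
        LinearMap.restrictScalars_apply, TensorProduct.mk_apply, LinearMap.baseChange_tmul]
      have : KaehlerDifferential.map Λ A B B (KaehlerDifferential.map Λ Λ A B y) = 0 := by
        have hy : y ∈ Submodule.span A (Set.range (KaehlerDifferential.D Λ A)) := by
          rw [KaehlerDifferential.span_range_derivation]; trivial
        induction hy using Submodule.span_induction with
        | mem _ h => obtain ⟨a, rfl⟩ := h; simp [KaehlerDifferential.map_D]
        | zero => simp
        | add _ _ _ _ h1 h2 => simp [h1, h2]
        | smul a z _ h =>
          rw [map_smul, ← algebraMap_smul B a (KaehlerDifferential.map Λ Λ A B z), map_smul, h, smul_zero]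
      rw [this, TensorProduct.tmul_zero, smul_zero]
  refine ⟨η - j ζ, ?_, by rw [map_sub, hj2, sub_zero]⟩
  show KaehlerDifferential.mapBaseChange Λ B C (η - j ζ) = 0
  rw [map_sub, hj1, hζ, sub_self]


end Groth.Agent.FieldIndex
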